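import Cfsg.Agent.OddHalf.D7.Uni.Norm
import Cfsg.Agent.OddHalf.D7.Uni.Chain
import Cfsg.Agent.KFacts.Unit.Flag

-- merged: Cfsg.Agent.OddHalf.D7.Uni.Layers
section

/-!
# The layers `B_i = C_{R_{e_i}}(ρ_1, …, ρ_{i-1})` (ODD D7, `K = U_n(q)`; text: helper929, 6.2)

`Cen t X W Q R ρ Q' R'`: `ρ ∈ K` (of order 3, on a hyperbolic plane perpendicular to `v`), `R'` = the subgroup of `R`
generated by `W` and the `E_{v,⟨v,x⟩}`, `x ⟂ [V, ρ]`. `Cen.mem`: `C_R(ρ) ≤ R'`.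
-/

set_option autoImplicit false

namespace Cfsg.Agent.OddHalf.D7.Uni.Layers

open Subgroup Cfsg.Agent.OddHalf.D7.Uni.Norm

variable {G : Type*} [Group G]

/-- `R'` = the part of `R` perpendicular to `[V, ρ]`. -/
structure Cen (t : G) (W Q R Q' R' : Subgroup G) (ρ : G) : Prop where
  ρt : ρ * t = t * ρ
  ρW : ∀ w ∈ W, ρ * w = w * ρ
  ρR' : ∀ r ∈ R', ρ * r = r * ρ
  R'R : R' ≤ R
  QR' : Q' ≤ R'
  WR' : W ≤ R'
  /-- every element of `Q'` is `[r, t]` modulo `W` with `r ∈ R'` -/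
  onto : ∀ q ∈ Q', ∃ r ∈ R', ∃ w ∈ W, t * r * t = r * (q * w)
  fixQ : ∀ q ∈ Q, ρ * q = q * ρ → q ∈ Q'

variable {t ρ : G} {X W Q R Q' R' : Subgroup G}

/-- `C_R(ρ) ≤ R'` -/
theorem Cen.mem (P : Pt t X W Q R) (C : Cen t W Q R Q' R' ρ) {b : G} (hb : b ∈ R) (hρ : ρ * b = b * ρ) :
    b ∈ R' := by
  obtain ⟨q, hq, w, hw, hbt⟩ := P.brk b hb
  have hq' : q ∈ Q' := by
    apply C.fixQ q hq
    have c1 : Commute ρ t := C.ρt
    have c2 : Commute ρ b := hρ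
    have c3 : Commute ρ w := C.ρW w hw
    have e : q = b⁻¹ * (t * b * t) * w⁻¹ := by rw [hbt]; group
    have c4 : Commute ρ q := by
      rw [e]
      exact (c2.inv_right.mul_right ((c1.mul_right c2).mul_right c1)).mul_right c3.inv_right
    exact c4.eq
  obtain ⟨r, hr, v, hv, hrt⟩ := C.onto q hq'
  have h1 : t * (b * r⁻¹) * t = b * r⁻¹ * (w * v⁻¹) := by
    have hc : w * v⁻¹ * (q⁻¹ * r⁻¹) = q⁻¹ * r⁻¹ * (w * v⁻¹) :=
      P.Wc _ (mul_mem hw (inv_mem hv)) _ (mul_mem (inv_mem (P.QR hq)) (inv_mem (C.R'R hr)))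
    rw [P.t_mul, P.t_inv, hbt, hrt]
    calc b * (q * w) * (r * (q * v))⁻¹ = b * q * (w * v⁻¹ * (q⁻¹ * r⁻¹)) := by group
      _ = b * q * (q⁻¹ * r⁻¹ * (w * v⁻¹)) := by rw [hc]
      _ = b * r⁻¹ * (w * v⁻¹) := by group
  obtain ⟨q1, hq1, x, hx, hg⟩ := P.fixW (mul_mem hb (inv_mem (C.R'R hr))) (mul_mem hw (inv_mem hv)) h1
  have hbe : b = q1 * x * r := by rw [← hg]; group
  have hq1' : q1 ∈ Q' := by
    apply C.fixQ q1 hq1
    have c2 : Commute ρ b := hρ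
    have c3 : Commute ρ x := C.ρW x hx
    have c4 : Commute ρ r := C.ρR' r hr
    have e : q1 = b * r⁻¹ * x⁻¹ := by rw [hbe]; group
    have c5 : Commute ρ q1 := by
      rw [e]; exact (c2.mul_right c4.inv_right).mul_right c3.inv_right
    exact c5.eq
  rw [hbe]
  exact mul_mem (mul_mem (C.QR' hq1') (C.WR' hx)) hr

/-- The layer `B = C_R(D)`. -/
def B (R : Subgroup G) (D : Set G) : Subgroup G := R ⊓ centralizer D

theorem mem_B {R : Subgroup G} {D : Set G} {x : G} : x ∈ B R D ↔ x ∈ R ∧ ∀ d ∈ D, d * x = x * d := by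
  rw [B, mem_inf, mem_centralizer_iff]

/-- 6.2: the later layer `B R D` (`ρ ∈ D`) normalises the earlier layer `B Ri Di` (`Di ⊆ D`), if `R'` normalises `Ri`. -/
theorem B_conj (P : Pt t X W Q R) (C : Cen t W Q R Q' R' ρ) {Ri : Subgroup G} {D Di : Set G} (hD : Di ⊆ D)
    (hρ : ρ ∈ D) (hn : ∀ r ∈ R', ∀ x ∈ Ri, r * x * r⁻¹ ∈ Ri) :
    ∀ b ∈ B R D, ∀ x ∈ B Ri Di, b * x * b⁻¹ ∈ B Ri Di := by
  intro b hb x hx
  rw [mem_B] at hb hx ⊢
  refine ⟨hn b (C.mem P hb.1 (hb.2 ρ hρ)) x hx.1, fun d hd => ?_⟩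
  have c1 : Commute d b := hb.2 d (hD hd)
  have c2 : Commute d x := hx.2 d hd
  exact ((c1.mul_right c2).mul_right c1.inv_right).eq

/-- The elements of `R'` normalise `Ri` as soon as generators of `R'` do. -/
theorem conj_of_gen [Finite G] {R' Ri : Subgroup G} {S : Set G} (hg : R' ≤ closure S)
    (hs : ∀ s ∈ S, ∀ x ∈ Ri, s * x * s⁻¹ ∈ Ri) : ∀ r ∈ R', ∀ x ∈ Ri, r * x * r⁻¹ ∈ Ri := by
  have h1 : closure S ≤ normalizer (Ri : Set G) := by
    rw [closure_le]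
    intro s hs'
    have h2 : Ri.map (MulAut.conj s).toMonoidHom ≤ Ri := by
      rw [map_le_iff_le_comap]
      intro x hx
      exact hs s hs' x hx
    have h3 : Ri.map (MulAut.conj s).toMonoidHom = Ri := by
      apply Subgroup.eq_of_le_of_card_ge h2
      rw [card_map_of_injective (MulAut.conj s).injective]
    show s ∈ normalizer (Ri : Set G)
    rw [mem_normalizer_iff]
    intro x
    constructor
    · intro hx; exact hs s hs' x hx
    · intro hx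
      rw [← h3] at hx
      obtain ⟨y, hy, hyx⟩ := hx
      have : y = x := (MulAut.conj s).injective hyx
      rw [← this]; exact hy
  intro r hr x hx
  exact (mem_normalizer_iff.1 (h1 (hg hr)) x).1 hx

/-! ### The properties of a layer -/

/-- The layer at the point `v`: `W ≤ B`, `C_B(t) = QB`, and `t` acts freely on `B`. -/
structure Layer (t : G) (QB B : Subgroup G) : Prop where
  tt : t * t = 1
  le : QB ≤ B
  Bt : ∀ b ∈ B, t * b * t ∈ B
  fix : ∀ b ∈ B, t * b = b * t ↔ b ∈ QB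
  /-- an element of `B` inverted by `t` is `[x, t]` with `x ∈ B` -/
  inv : ∀ y ∈ B, t * y * t = y⁻¹ → ∃ x ∈ B, t * x * t = x * y

end Cfsg.Agent.OddHalf.D7.Uni.Layers

end

-- merged: Cfsg.Agent.OddHalf.D7.Uni.FrameLayers
section

/-!
# The layers of a frame (ODD D7, `K = U_n(q)`; text: helper929, 6.1 and 6.2)

`Frame`: the points `e_0, …, e_{m-1}` of a frame with their doubled groups `R j`, and elements `ρ j` of order 3
(`ρ j : e_j → f_j → e_j + f_j`). The layers `T j = C_{R j}(ρ_0, …, ρ_{j-1})` satisfy `Chain.Layers`.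
-/

set_option autoImplicit false

namespace Cfsg.Agent.OddHalf.D7.Uni.FrameLayers

open Subgroup Cfsg.Agent.OddHalf.D7.Uni.Norm Cfsg.Agent.OddHalf.D7.Uni.Layers

variable {G : Type*} [Group G]

/-- An element `ρ` of order 3 acting on the double `R`. -/
structure Rot (t : G) (W R : Subgroup G) (ρ : G) : Prop where
  ρt : ρ * t = t * ρ
  three : ρ * ρ * ρ = 1
  ρW : ∀ w ∈ W, ρ * w = w * ρ
  ρR : ∀ r ∈ R, ρ * r * ρ⁻¹ ∈ R

section

variable {t ρ : G} {X W Q R : Subgroup G}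

/-- The product `r · ρrρ⁻¹ · ρ²rρ⁻²`. -/
def nm (ρ r : G) : G := r * (ρ * r * ρ⁻¹) * (ρ * (ρ * r * ρ⁻¹) * ρ⁻¹)

theorem nm_comm {ρ r σ : G} (h1 : Commute σ ρ) (h2 : Commute σ r) : Commute σ (nm ρ r) := by
  have h3 : Commute σ (ρ * r * ρ⁻¹) := (h1.mul_right h2).mul_right h1.inv_right
  exact (h2.mul_right h3).mul_right ((h1.mul_right h3).mul_right h1.inv_right)

/-- `nm ρ r` commutes with `ρ`. -/
theorem nm_fix (P : Pt t X W Q R) (hW : ∀ w ∈ W, w * w = 1) (D : Rot t W R ρ) {r : G} (hr : r ∈ R) :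
    ρ * nm ρ r = nm ρ r * ρ := by
  have h1 := D.ρR r hr
  have h2 := D.ρR _ h1
  have hρ3 : ρ * (ρ * (ρ * r * ρ⁻¹) * ρ⁻¹) * ρ⁻¹ = r := by
    calc ρ * (ρ * (ρ * r * ρ⁻¹) * ρ⁻¹) * ρ⁻¹ = (ρ * ρ * ρ) * r * (ρ * ρ * ρ)⁻¹ := by group
      _ = r := by rw [D.three]; group
  set a := ρ * r * ρ⁻¹ with ha
  set b := ρ * a * ρ⁻¹ with hb
  -- `ρ n ρ⁻¹ = a b r = n w`
  have hn : nm ρ r = r * a * b := by unfold nm; rw [← ha, ← hb]
  have h3 : ρ * nm ρ r * ρ⁻¹ = a * b * r := by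
    have e : ∀ a b : G, ρ * (r * a * b) * ρ⁻¹ = (ρ * r * ρ⁻¹) * (ρ * a * ρ⁻¹) * (ρ * b * ρ⁻¹) := by
      intro a b; group
    rw [hn, e, hρ3, ← ha, ← hb]
  have h4 : ∃ w ∈ W, a * b * r = r * a * b * w := by
    refine ⟨(a * b)⁻¹ * r⁻¹ * (a * b) * r, ?_, by group⟩
    have := P.com (a * b)⁻¹ (inv_mem (mul_mem h1 h2)) r⁻¹ (inv_mem hr)
    simpa using this
  obtain ⟨w, hw, hwe⟩ := h4
  have hnR : nm ρ r ∈ R := by rw [hn]; exact mul_mem (mul_mem hr h1) h2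
  set n := nm ρ r with hnd
  have h5 : ρ * n * ρ⁻¹ = n * w := by rw [h3, hwe, hn]
  have hρw : ρ * w * ρ⁻¹ = w := by rw [D.ρW w hw]; group
  have h6 : ρ * (ρ * (ρ * n * ρ⁻¹) * ρ⁻¹) * ρ⁻¹ = n * (w * w * w) := by
    have e1 : ρ * (n * w) * ρ⁻¹ = (ρ * n * ρ⁻¹) * (ρ * w * ρ⁻¹) := by group
    have e2 : ρ * (n * w * w) * ρ⁻¹ = (ρ * n * ρ⁻¹) * (ρ * w * ρ⁻¹) * (ρ * w * ρ⁻¹) := by group
    rw [h5, e1, h5, hρw, e2, h5, hρw]; group
  have h7 : ρ * (ρ * (ρ * n * ρ⁻¹) * ρ⁻¹) * ρ⁻¹ = n := by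
    calc ρ * (ρ * (ρ * n * ρ⁻¹) * ρ⁻¹) * ρ⁻¹ = (ρ * ρ * ρ) * n * (ρ * ρ * ρ)⁻¹ := by group
      _ = n := by rw [D.three]; group
  rw [h7, hW w hw, one_mul] at h6
  have hw1 : w = 1 := by
    have := h6.symm
    rwa [mul_eq_left] at this
  rw [hw1, mul_one] at h5
  calc ρ * n = ρ * n * ρ⁻¹ * ρ := by group
    _ = n * ρ := by rw [h5]

/-- `[nm r, t] = q` modulo `W` if `[r, t] = q` modulo `W` and `ρ` commutes with `q`. -/
theorem nm_brk (P : Pt t X W Q R) (D : Rot t W R ρ) {r q w : G} (hr : r ∈ R) (hq : q ∈ Q) (hw : w ∈ W)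
    (h : t * r * t = r * (q * w)) (hρq : ρ * q = q * ρ) :
    ∃ x ∈ W, t * nm ρ r * t = nm ρ r * (q * x) := by
  have ct : Commute ρ t := D.ρt
  have h1 := D.ρR r hr
  have h2 := D.ρR _ h1
  have hρw : ρ * w * ρ⁻¹ = w := by rw [D.ρW w hw]; group
  have hρqc : ρ * q * ρ⁻¹ = q := by rw [hρq]; group
  have hct : ∀ x : G, t * (ρ * x * ρ⁻¹) * t = ρ * (t * x * t) * ρ⁻¹ := by
    intro x
    calc t * (ρ * x * ρ⁻¹) * t = (t * ρ) * x * (ρ⁻¹ * t) := by group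
      _ = (ρ * t) * x * (t * ρ⁻¹) := by rw [← ct.eq, ct.inv_left.eq]
      _ = ρ * (t * x * t) * ρ⁻¹ := by group
  set a := ρ * r * ρ⁻¹ with ha
  set b := ρ * a * ρ⁻¹ with hb
  have hat : t * a * t = a * (q * w) := by
    rw [ha, hct, h]
    calc ρ * (r * (q * w)) * ρ⁻¹ = (ρ * r * ρ⁻¹) * ((ρ * q * ρ⁻¹) * (ρ * w * ρ⁻¹)) := by group
      _ = ρ * r * ρ⁻¹ * (q * w) := by rw [hρqc, hρw]
  have hbt : t * b * t = b * (q * w) := by
    rw [hb, hct, hat]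
    calc ρ * (a * (q * w)) * ρ⁻¹ = (ρ * a * ρ⁻¹) * ((ρ * q * ρ⁻¹) * (ρ * w * ρ⁻¹)) := by group
      _ = ρ * a * ρ⁻¹ * (q * w) := by rw [hρqc, hρw]
  have hn : nm ρ r = r * a * b := by unfold nm; rw [← ha, ← hb]
  have hqR := P.QR hq
  -- `t n t = r q w a q w b q w`
  refine ⟨(q⁻¹ * b⁻¹ * a⁻¹) * (q * w * a * (q * w) * b * (q * w)) * 1, ?_, ?_⟩
  · -- modulo `W`: `q⁻¹ b⁻¹ a⁻¹ q a q b q = q² = 1`
    have e1 : Commute w a := P.Wc w hw a h1
    have e2 : Commute w b := P.Wc w hw b h2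
    have e3 : Commute w q := P.Wc w hw q hqR
    have h5 : q⁻¹ * b⁻¹ * a⁻¹ * (q * w * a * (q * w) * b * (q * w)) =
        (q⁻¹ * b⁻¹ * a⁻¹ * (q * a * q * b * q)) * (w * w * w) := by
      calc q⁻¹ * b⁻¹ * a⁻¹ * (q * w * a * (q * w) * b * (q * w))
          = q⁻¹ * b⁻¹ * a⁻¹ * (q * (w * a) * q * (w * b) * q * w) := by group
        _ = q⁻¹ * b⁻¹ * a⁻¹ * (q * (a * w) * q * (b * w) * q * w) := by rw [e1.eq, e2.eq]
        _ = q⁻¹ * b⁻¹ * a⁻¹ * (q * a * (w * (q * b)) * (w * q) * w) := by group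
        _ = q⁻¹ * b⁻¹ * a⁻¹ * (q * a * ((q * b) * w) * (q * w) * w) := by
            rw [(e3.mul_right e2).eq, e3.eq]
        _ = q⁻¹ * b⁻¹ * a⁻¹ * (q * a * q * b * (w * q) * w * w) := by group
        _ = (q⁻¹ * b⁻¹ * a⁻¹ * (q * a * q * b * q)) * (w * w * w) := by rw [e3.eq]; group
    rw [mul_one, h5]
    refine mul_mem ?_ (mul_mem (mul_mem hw hw) hw)
    -- `q⁻¹ b⁻¹ a⁻¹ q a q b q = q⁻¹ b⁻¹ [a⁻¹,q] q q b q`
    have h6 : q⁻¹ * b⁻¹ * a⁻¹ * (q * a * q * b * q) =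
        q⁻¹ * (b⁻¹ * ((a⁻¹ * q * a⁻¹⁻¹ * q⁻¹) * (q * q)) * b) * q := by group
    rw [h6]
    have h7 : a⁻¹ * q * a⁻¹⁻¹ * q⁻¹ * (q * q) ∈ W :=
      mul_mem (P.com _ (inv_mem h1) q hqR) (P.sq q hqR)
    have h8 : b⁻¹ * (a⁻¹ * q * a⁻¹⁻¹ * q⁻¹ * (q * q)) * b = a⁻¹ * q * a⁻¹⁻¹ * q⁻¹ * (q * q) := by
      rw [mul_assoc, P.Wc _ h7 b h2]; group
    rw [h8]
    have h9 : q⁻¹ * (a⁻¹ * q * a⁻¹⁻¹ * q⁻¹ * (q * q)) * q = a⁻¹ * q * a⁻¹⁻¹ * q⁻¹ * (q * q) := by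
      rw [mul_assoc, P.Wc _ h7 q hqR]; group
    rw [h9]
    exact h7
  · rw [hn, P.t_mul, P.t_mul, h, hat, hbt]
    group

end

/-- The frame. `X j, W j, Qv j, R j` belong to the point `e_j`. -/
structure Frame (t : G) (m : ℕ) (X W Qv R : ℕ → Subgroup G) (ρ : ℕ → G) : Prop where
  tt : t * t = 1
  pt : ∀ j < m, Pt t (X j) (W j) (Qv j) (R j)
  XQ : ∀ j < m, X j ≤ Qv j
  XW : ∀ j < m, X j ≤ W j
  Wsq : ∀ j < m, ∀ w ∈ W j, w * w = 1
  Wbrk : ∀ j < m, ∀ w ∈ W j, w⁻¹ * (t * w * t) ∈ X j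
  Wonto : ∀ j < m, ∀ x ∈ X j, ∃ w ∈ W j, w⁻¹ * (t * w * t) = x
  rot : ∀ i j, i < j → j < m → Rot t (W j) (R j) (ρ i)
  ρρ : ∀ i j, i < m → j < m → ρ i * ρ j = ρ j * ρ i
  nR : ∀ i j, i < j → j < m → ∀ b ∈ R j, ρ i * b = b * ρ i → ∀ x ∈ R i, b * x * b⁻¹ ∈ R i

namespace Frame

variable {t : G} {m : ℕ} {X W Qv R : ℕ → Subgroup G} {ρ : ℕ → G}

/-- `{ρ_i : i < j}` -/
def Dj (ρ : ℕ → G) (j : ℕ) : Set G := ρ '' Set.Iio j

/-- `Q_j = C_{Qv_j}(ρ_0, …, ρ_{j-1})` -/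
def Qj (Qv : ℕ → Subgroup G) (ρ : ℕ → G) (j : ℕ) : Subgroup G := B (Qv j) (Dj ρ j)

/-- `T_j = C_{R_j}(ρ_0, …, ρ_{j-1})` -/
def Tj (R : ℕ → Subgroup G) (ρ : ℕ → G) (j : ℕ) : Subgroup G := B (R j) (Dj ρ j)

theorem mem_Qj {j : ℕ} {x : G} : x ∈ Qj Qv ρ j ↔ x ∈ Qv j ∧ ∀ i < j, ρ i * x = x * ρ i := by
  rw [Qj, mem_B, Dj]
  simp only [Set.mem_image, Set.mem_Iio, forall_exists_index, and_imp, forall_apply_eq_imp_iff₂]

theorem mem_Tj {j : ℕ} {x : G} : x ∈ Tj R ρ j ↔ x ∈ R j ∧ ∀ i < j, ρ i * x = x * ρ i := by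
  rw [Tj, mem_B, Dj]
  simp only [Set.mem_image, Set.mem_Iio, forall_exists_index, and_imp, forall_apply_eq_imp_iff₂]

/-- 6.1: lifting `q ∈ Q_j` to `T_j`. -/
theorem lift (h : Frame t m X W Qv R ρ) {j : ℕ} (hj : j < m) {q : G} (hq : q ∈ Qv j) (k : ℕ) (hk : k ≤ j)
    (hqk : ∀ i < k, ρ i * q = q * ρ i) :
    ∃ r ∈ R j, (∀ i < k, ρ i * r = r * ρ i) ∧ ∃ w ∈ W j, t * r * t = r * (q * w) := by
  induction k with
  | zero =>
    obtain ⟨r, hr, w, hw, hrw⟩ := (h.pt j hj).onto q hq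
    exact ⟨r, hr, by intro i hi; omega, w, hw, hrw⟩
  | succ k ih =>
    obtain ⟨r, hr, hri, w, hw, hrw⟩ := ih (by omega) (fun i hi => hqk i (by omega))
    have D := h.rot k j (by omega) hj
    have h1 := D.ρR r hr
    have h2 := D.ρR _ h1
    obtain ⟨x, hx, hxe⟩ := nm_brk (h.pt j hj) D hr hq hw hrw (hqk k (by omega))
    refine ⟨nm (ρ k) r, mul_mem (mul_mem hr h1) h2, ?_, x, hx, hxe⟩
    intro i hi
    rcases Nat.lt_succ_iff_lt_or_eq.1 hi with hi' | rfl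
    · exact (nm_comm (h.ρρ i k (by omega) (by omega)) (hri i hi')).eq
    · exact nm_fix (h.pt j hj) (h.Wsq j hj) D hr

/-- The layers `T_j`. -/
theorem layers (h : Frame t m X W Qv R ρ) (dir : ∀ j < m, ∀ q ∈ Qj Qv ρ j, q ∈ Chain.pr (Qj Qv ρ) j → q = 1) :
    Chain.Layers t m X (Qj Qv ρ) W (Tj R ρ) where
  tt := h.tt
  Qt j hj x hx := (h.pt j hj).t_eq.2 ((h.pt j hj).tQ x (mem_Qj.1 hx).1)
  XQ j hj x hx := mem_Qj.2 ⟨h.XQ j hj hx, fun i hi => (h.rot i j hi hj).ρW x (h.XW j hj hx)⟩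
  XW := h.XW
  WT j hj w hw := mem_Tj.2 ⟨(h.pt j hj).WR hw, fun i hi => (h.rot i j hi hj).ρW w hw⟩
  QT j hj q hq := mem_Tj.2 ⟨(h.pt j hj).QR (mem_Qj.1 hq).1, (mem_Qj.1 hq).2⟩
  Wsq := h.Wsq
  Tsq j hj x hx := (h.pt j hj).sq x (mem_Tj.1 hx).1
  Wbrk := h.Wbrk
  Wonto := h.Wonto
  Wcent j hj w hw hwt := (h.pt j hj).Wfix w hw ((h.pt j hj).t_eq.1 hwt)
  Tbrk j hj r hr := by
    obtain ⟨hr1, hr2⟩ := mem_Tj.1 hr
    obtain ⟨q, hq, w, hw, hrw⟩ := (h.pt j hj).brk r hr1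
    refine ⟨q, mem_Qj.2 ⟨hq, fun i hi => ?_⟩, ?_⟩
    · have D := h.rot i j hi hj
      have c1 : Commute (ρ i) t := D.ρt
      have c2 : Commute (ρ i) r := hr2 i hi
      have c3 : Commute (ρ i) w := D.ρW w hw
      have e : q = r⁻¹ * (t * r * t) * w⁻¹ := by rw [hrw]; group
      have c4 : Commute (ρ i) q := by
        rw [e]
        exact (c2.inv_right.mul_right ((c1.mul_right c2).mul_right c1)).mul_right c3.inv_right
      exact c4.eq
    · rw [hrw]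
      have : q⁻¹ * (r⁻¹ * (r * (q * w))) = w := by group
      rw [this]; exact hw
  Tonto j hj q hq := by
    obtain ⟨hq1, hq2⟩ := mem_Qj.1 hq
    obtain ⟨r, hr, hri, w, hw, hrw⟩ := h.lift hj hq1 j le_rfl hq2
    refine ⟨r, mem_Tj.2 ⟨hr, hri⟩, ?_⟩
    rw [hrw]
    have : q⁻¹ * (r⁻¹ * (r * (q * w))) = w := by group
    rw [this]; exact hw
  Tker j hj r hr hrt := by
    obtain ⟨hr1, hr2⟩ := mem_Tj.1 hr
    have e : t * r * t = r * (r⁻¹ * (t * r * t)) := by group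
    obtain ⟨q, hq, x, hx, hqx⟩ := (h.pt j hj).fixW hr1 hrt e
    refine ⟨q, mem_Qj.2 ⟨hq, fun i hi => ?_⟩, ?_⟩
    · have D := h.rot i j hi hj
      have c2 : Commute (ρ i) r := hr2 i hi
      have c3 : Commute (ρ i) x := D.ρW x hx
      have e : q = r * x⁻¹ := by rw [hqx]; group
      have c4 : Commute (ρ i) q := by rw [e]; exact c2.mul_right c3.inv_right
      exact c4.eq
    · have : q⁻¹ * r = x := by rw [hqx]; group
      rw [this]; exact hx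
  normT i j hij hj g hg x hx := by
    obtain ⟨hg1, hg2⟩ := mem_Tj.1 hg
    obtain ⟨hx1, hx2⟩ := mem_Tj.1 hx
    refine mem_Tj.2 ⟨h.nR i j hij hj g hg1 (hg2 i hij) x hx1, fun k hk => ?_⟩
    have c1 : Commute (ρ k) g := hg2 k (by omega)
    have c2 : Commute (ρ k) x := hx2 k hk
    exact ((c1.mul_right c2).mul_right c1.inv_right).eq
  normW j hj g hg x hx := by
    have := (h.pt j hj).Wc x hx g (mem_Tj.1 hg).1
    rw [← this, mul_inv_cancel_right]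
    exact hx
  dir := dir

end Frame

end Cfsg.Agent.OddHalf.D7.Uni.FrameLayers

end

-- merged: Cfsg.Agent.KFacts.Unit.FlagMap
section

/-!
# The images in `G` of the unipotent radicals of a frame

`φ : SU n F q →* G` with central kernel. `Qj_eq`: the groups `Frame.Qj` for the images are the images of the `QS j`.
`dir_map`, `odd_relIndex`, `odd_cent`: the hypotheses of `Frame.layers` and `Lay.exists_hom`.
-/

set_option autoImplicit false

namespace Cfsg.Agent.KFacts.Unit.FlagMap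

open Cfsg Cfsg.Agent.LieClassical.HermBasic Cfsg.Agent.LieClassical.HermSiegel
  Cfsg.Agent.LieClassical.HermGen Cfsg.Agent.LieClassical.SUBasic Cfsg.Agent.ClassicalGeometry.PSUAutBasic
  Cfsg.Agent.KFacts.Unit.Flag Cfsg.Agent.OddHalf.D7.Uni Cfsg.Agent.OddHalf.D7.Uni.FrameLayers

variable {F : Type*} [Field F] [Fintype F] {q n : ℕ} {G : Type*} [Group G] {m : ℕ} {e f : ℕ → Fin n → F}
  {ρ : ℕ → SU n F q}

/-- The radicals `Q_{e_j}` in `G`. -/
def Qg (φ : SU n F q →* G) (e : ℕ → Fin n → F) (j : ℕ) : Subgroup G := (QA q (e j)).map φ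

/-- The elements of order three in `G`. -/
def rg (φ : SU n F q →* G) (ρ : ℕ → SU n F q) (j : ℕ) : G := φ (ρ j)

/-- a central element fixing a nonzero vector is trivial -/
theorem eq_one_of_center_of_fix (hF : Fintype.card F = q ^ 2) (hn : 3 ≤ n) {z : SU n F q}
    (hz : z ∈ Subgroup.center (SU n F q)) {u : Fin n → F} (hu : u ≠ 0) (h : act z u = u) : z = 1 := by
  obtain ⟨c, -, -, hc⟩ := exists_scalar_of_mem_center hF hn hz
  have h1 : (c - 1) • u = 0 := by rw [sub_smul, one_smul, ← hc, h, sub_self]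
  have h2 : c = 1 := by
    rcases smul_eq_zero.1 h1 with h3 | h3
    · exact sub_eq_zero.1 h3
    · exact absurd h3 hu
  refine ext_act fun v => ?_
  rw [hc, h2, one_smul, act_one]

theorem Qj_eq (hF : Fintype.card F = q ^ 2) (hn : 3 ≤ n) (h : Fr q m e f) (R : Rho q m e f ρ) (φ : SU n F q →* G)
    (hφ : φ.ker ≤ Subgroup.center (SU n F q)) {j : ℕ} (hj : j < m) :
    Frame.Qj (Qg φ e) (rg φ ρ) j = (QS q e f j).map φ := by
  ext x
  rw [Frame.mem_Qj]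
  constructor
  · rintro ⟨⟨g, hg, rfl⟩, hx⟩
    refine ⟨g, (R.mem_QS_iff h hj).2 ⟨hg, fun i hi => ?_⟩, rfl⟩
    have h1 : φ ((ρ i * g)⁻¹ * (g * ρ i)) = 1 := by
      rw [map_mul, map_inv, map_mul, map_mul]
      have := hx i hi
      change φ (ρ i) * φ g = φ g * φ (ρ i) at this
      rw [this, inv_mul_cancel]
    have h2 : (ρ i * g)⁻¹ * (g * ρ i) = 1 := by
      refine eq_one_of_center_of_fix hF hn (hφ h1) (h.ne_zero hj) ?_
      have h3 := (R.fix_e h (i := i) (j := j) (by omega) hj (by omega)).1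
      have h4 : act (ρ i * g) (e j) = e j := by rw [act_mul, hg.1, h3]
      have h5 : act (g * ρ i) (e j) = e j := by rw [act_mul, h3, hg.1]
      rw [act_mul, h5]
      exact ((act_eq_iff _).1 h4).symm
    exact inv_mul_eq_one.1 h2
  · rintro ⟨g, hg, rfl⟩
    obtain ⟨h1, h2⟩ := (R.mem_QS_iff h hj).1 hg
    refine ⟨⟨g, h1, rfl⟩, fun i hi => ?_⟩
    change φ (ρ i) * φ g = φ g * φ (ρ i)
    rw [← map_mul, h2 i hi, map_mul]

omit [Fintype F] in
theorem pr_map (φ : SU n F q →* G) (T : ℕ → Subgroup (SU n F q)) (j : ℕ) :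
    Chain.pr (fun i => (T i).map φ) j = (Chain.pr T j).map φ := by
  induction j with
  | zero => exact (Subgroup.map_bot φ).symm
  | succ j ih =>
    change Chain.pr _ j ⊔ _ = (Chain.pr T j ⊔ T j).map φ
    rw [ih, Subgroup.map_sup]

theorem pr_congr {T T' : ℕ → Subgroup G} {j : ℕ} (h : ∀ i < j, T i = T' i) : Chain.pr T j = Chain.pr T' j := by
  induction j with
  | zero => rfl
  | succ j ih =>
    change Chain.pr _ j ⊔ _ = Chain.pr _ j ⊔ _
    rw [ih fun i hi => h i (by omega), h j (by omega)]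

theorem pr_Qj_eq (hF : Fintype.card F = q ^ 2) (hn : 3 ≤ n) (h : Fr q m e f) (R : Rho q m e f ρ) (φ : SU n F q →* G)
    (hφ : φ.ker ≤ Subgroup.center (SU n F q)) {j : ℕ} (hj : j ≤ m) :
    Chain.pr (Frame.Qj (Qg φ e) (rg φ ρ)) j = (Chain.pr (QS q e f) j).map φ := by
  rw [← pr_map]
  exact pr_congr fun i hi => Qj_eq hF hn h R φ hφ (by omega)

/-- `φ` is injective on the product -/
theorem inj_pr [CharP F 2] (hF : Fintype.card F = q ^ 2) (hn : 3 ≤ n) (h : Fr q m e f) (φ : SU n F q →* G)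
    (hφ : φ.ker ≤ Subgroup.center (SU n F q)) {a b : SU n F q} (ha : a ∈ Chain.pr (QS q e f) m)
    (hb : b ∈ Chain.pr (QS q e f) m) (hab : φ a = φ b) : a = b := by
  have h2 : Fact (Nat.Prime 2) := ⟨Nat.prime_two⟩
  have h1 : a⁻¹ * b ∈ Subgroup.center (SU n F q) := hφ (by
    rw [MonoidHom.mem_ker, map_mul, map_inv, hab, inv_mul_cancel])
  obtain ⟨k, hk⟩ := isPGroup_pr hF h le_rfl ⟨a⁻¹ * b, mul_mem (inv_mem ha) hb⟩
  exact inv_mul_eq_one.1 (eq_one_of_center_of_pow hF hn (p := 2) h1 (k := k) (congrArg Subtype.val hk))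

/-- **Directness in `G`.** -/
theorem dir_map [CharP F 2] (hF : Fintype.card F = q ^ 2) (hn : 3 ≤ n) (h : Fr q m e f) (R : Rho q m e f ρ)
    (φ : SU n F q →* G) (hφ : φ.ker ≤ Subgroup.center (SU n F q)) :
    ∀ j < m, ∀ x ∈ Frame.Qj (Qg φ e) (rg φ ρ) j, x ∈ Chain.pr (Frame.Qj (Qg φ e) (rg φ ρ)) j → x = 1 := by
  intro j hj x hx hx'
  rw [Qj_eq hF hn h R φ hφ hj] at hx
  rw [pr_Qj_eq hF hn h R φ hφ hj.le] at hx'
  obtain ⟨a, ha, rfl⟩ := hx
  obtain ⟨b, hb, hab⟩ := hx'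
  have h1 : b = a := inj_pr hF hn h φ hφ (Chain.pr_mono _ hj.le hb) (Chain.le_pr _ hj ha) hab
  rw [h1] at hb
  rw [dir h hj ha hb, map_one]

/-- **Odd index in the image of `φ`.** -/
theorem odd_relIndex [CharP F 2] (hF : Fintype.card F = q ^ 2) (hn : 3 ≤ n) (h : Fr q m e f) (R : Rho q m e f ρ)
    (φ : SU n F q →* G) (hφ : φ.ker ≤ Subgroup.center (SU n F q)) :
    Odd ((Chain.pr (Frame.Qj (Qg φ e) (rg φ ρ)) m).relIndex φ.range) := by
  rw [pr_Qj_eq hF hn h R φ hφ le_rfl]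
  have h1 : ((Chain.pr (QS q e f) m).map φ).relIndex φ.range ∣ (Chain.pr (QS q e f) m).index := by
    have e1 : ((Chain.pr (QS q e f) m).map φ).relIndex φ.range =
        ((Chain.pr (QS q e f) m).map φ.rangeRestrict).index := by
      rw [Subgroup.relIndex]
      congr 1
      ext x
      rw [Subgroup.mem_subgroupOf]
      constructor
      · rintro ⟨a, ha, hax⟩
        exact ⟨a, ha, Subtype.ext hax⟩
      · rintro ⟨a, ha, hax⟩
        exact ⟨a, ha, congrArg Subtype.val hax⟩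
    rw [e1]
    exact Subgroup.index_map_dvd _ φ.rangeRestrict_surjective
  exact (odd_index hF h).of_dvd_nat h1

omit [Fintype F] in
/-- index two -/
theorem relIndex_sup {H : Subgroup G} {t : G} (tt : t * t = 1) (ht : t ∉ H) (hH : ∀ x ∈ H, t * x = x * t) :
    H.relIndex (H ⊔ Subgroup.zpowers t) = 2 := by
  have ti : t⁻¹ = t := inv_eq_of_mul_eq_one_left tt
  have hmem : ∀ x ∈ H ⊔ Subgroup.zpowers t, x ∈ H ∨ x * t ∈ H := by
    intro x hx
    let P : Subgroup G :=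
      { carrier := {x | t * x = x * t ∧ (x ∈ H ∨ x * t ∈ H)}
        one_mem' := ⟨by rw [mul_one, one_mul], Or.inl (one_mem _)⟩
        mul_mem' := by
          rintro a b ⟨ca, ha⟩ ⟨cb, hb⟩
          refine ⟨by rw [← mul_assoc, ca, mul_assoc, cb, mul_assoc], ?_⟩
          rcases ha with ha | ha <;> rcases hb with hb | hb
          · exact Or.inl (mul_mem ha hb)
          · exact Or.inr (by rw [mul_assoc]; exact mul_mem ha hb)
          · right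
            have h1 := mul_mem ha hb
            rwa [mul_assoc, cb, ← mul_assoc] at h1
          · left
            have h1 := mul_mem ha hb
            have h2 : a * t * (b * t) = a * b := by
              rw [← cb, mul_assoc a t, ← mul_assoc t t, tt, one_mul]
            rwa [h2] at h1
        inv_mem' := by
          rintro a ⟨ca, ha⟩
          have ca' : t * a⁻¹ = a⁻¹ * t := by
            rw [eq_inv_mul_iff_mul_eq, ← mul_assoc, ← ca, mul_inv_cancel_right]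
          refine ⟨ca', ?_⟩
          rcases ha with ha | ha
          · exact Or.inl (inv_mem ha)
          · right
            have h1 := inv_mem ha
            rwa [mul_inv_rev, ti, ca'] at h1 }
    have hP : H ⊔ Subgroup.zpowers t ≤ P := sup_le (fun a ha => ⟨hH a ha, Or.inl ha⟩)
      ((Subgroup.zpowers_le).2 ⟨rfl, Or.inr (by rw [tt]; exact one_mem _)⟩)
    exact (hP hx).2
  have htm : t ∈ H ⊔ Subgroup.zpowers t := Subgroup.mem_sup_right (Subgroup.mem_zpowers t)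
  rw [Subgroup.relIndex, Subgroup.index_eq_two_iff]
  refine ⟨⟨t, htm⟩, fun b => ?_⟩
  rw [Subgroup.mem_subgroupOf, Subgroup.mem_subgroupOf]
  change Xor ((b : G) * t ∈ H) ((b : G) ∈ H)
  rcases hmem b b.2 with hb | hb
  · refine Or.inr ⟨hb, fun h1 => ht ?_⟩
    have := mul_mem (inv_mem hb) h1
    rwa [inv_mul_cancel_left] at this
  · refine Or.inl ⟨hb, fun h1 => ht ?_⟩
    have := mul_mem (inv_mem h1) hb
    rwa [inv_mul_cancel_left] at this

omit [Fintype F] in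
/-- From `K` to the centraliser of `t`. -/
theorem odd_sup [Finite G] {U K : Subgroup G} {t : G} (tt : t * t = 1) (ht : t ∉ K) (hK : ∀ x ∈ K, t * x = x * t)
    (hUK : U ≤ K) (hodd : Odd (U.relIndex K))
    (hc : Odd ((K ⊔ Subgroup.zpowers t).relIndex (Subgroup.centralizer ({t} : Set G)))) :
    Odd ((U ⊔ Subgroup.zpowers t).relIndex (Subgroup.centralizer ({t} : Set G))) := by
  have hle : K ⊔ Subgroup.zpowers t ≤ Subgroup.centralizer ({t} : Set G) := by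
    refine sup_le (fun x hx => Subgroup.mem_centralizer_singleton_iff.2 (hK x hx).symm) ?_
    rw [Subgroup.zpowers_le, Subgroup.mem_centralizer_singleton_iff]
  have h1 : U ⊔ Subgroup.zpowers t ≤ K ⊔ Subgroup.zpowers t := sup_le_sup_right hUK _
  rw [← Subgroup.relIndex_mul_relIndex _ _ _ h1 hle]
  refine Odd.mul ?_ hc
  have h2 := Subgroup.relIndex_mul_relIndex U (U ⊔ Subgroup.zpowers t) (K ⊔ Subgroup.zpowers t) le_sup_left h1
  have h3 := Subgroup.relIndex_mul_relIndex U K (K ⊔ Subgroup.zpowers t) hUK le_sup_left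
  rw [relIndex_sup tt (fun h => ht (hUK h)) fun x hx => hK x (hUK hx)] at h2
  rw [relIndex_sup tt ht hK] at h3
  have h4 : (U ⊔ Subgroup.zpowers t).relIndex (K ⊔ Subgroup.zpowers t) = U.relIndex K := by
    have : 2 * (U ⊔ Subgroup.zpowers t).relIndex (K ⊔ Subgroup.zpowers t) = U.relIndex K * 2 := h2.trans h3.symm
    omega
  rw [h4]
  exact hodd

/-- **The hypothesis of `Lay.exists_hom`.** -/
theorem odd_cent [Finite G] [CharP F 2] (hF : Fintype.card F = q ^ 2) (hn : 3 ≤ n) (h : Fr q m e f)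
    (R : Rho q m e f ρ) (φ : SU n F q →* G) (hφ : φ.ker ≤ Subgroup.center (SU n F q)) {t : G} (tt : t * t = 1)
    (ht : t ∉ φ.range) (hK : ∀ g, t * φ g = φ g * t)
    (hc : Odd ((φ.range ⊔ Subgroup.zpowers t).relIndex (Subgroup.centralizer ({t} : Set G)))) :
    Odd ((Chain.pr (Frame.Qj (Qg φ e) (rg φ ρ)) m ⊔ Subgroup.zpowers t).relIndex
      (Subgroup.centralizer ({t} : Set G))) := by
  refine odd_sup tt ht (by rintro _ ⟨g, rfl⟩; exact hK g) ?_ (odd_relIndex hF hn h R φ hφ) hc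
  rw [pr_Qj_eq hF hn h R φ hφ le_rfl]
  rintro _ ⟨a, -, rfl⟩
  exact ⟨a, rfl⟩

end Cfsg.Agent.KFacts.Unit.FlagMap

end
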