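import Mathlib
import Cfsg.Agent.KFacts.Unit.Point
import Cfsg.Agent.KFacts.Unit.Cent

-- merged: Cfsg.Agent.KFacts.Unit.Schur
section

/-!
# Schur's lemma for the transvections of the coordinate subspace (characteristic 2)

An additive map of `coordSub F n k`, `4 ≤ k ≤ n`, that commutes with all transvections `w ↦ w + (w, s) s`, `s` isotropic
in `coordSub F n k`, is a scalar.
-/

set_option autoImplicit false

namespace Cfsg.Agent.KFacts.Unit

open Cfsg Matrix Cfsg.Agent.LieClassical.HermBasic Cfsg.Agent.LieClassical.HermSiegel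
  Cfsg.Agent.LieClassical.HermGen Cfsg.Agent.LieClassical.SUBasic
  Cfsg.Agent.ClassicalGeometry.PSUAutBasic Cfsg.Agent.ClassicalGeometry.PSUAutSylow

variable {F : Type*} [Field F] [Fintype F] {q n k : ℕ}

/-- A partner inside the coordinate subspace. -/
theorem exists_partner_coord (hF : Fintype.card F = q ^ 2) {s : Fin n → F} (hs : s ∈ coordSub F n k) (hs0 : s ≠ 0)
    (hss : hermForm n F q s s = 0) :
    ∃ t ∈ coordSub F n k, hermForm n F q t t = 0 ∧ hermForm n F q t s = 1 := by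
  obtain ⟨i, hi⟩ : ∃ i, s i ≠ 0 := by
    by_contra h
    exact hs0 (funext fun i => by_contra fun hi => h ⟨i, hi⟩)
  have hik : i.val < k := by
    by_contra h
    exact hi (hs i (by omega))
  have h1 : hermForm n F q s (Pi.single i 1) ≠ 0 := by
    rw [herm_single_right hF, one_pow, mul_one]; exact hi
  obtain ⟨c, hc⟩ := exists_iso_correct hF hss h1
  set y : Fin n → F := Pi.single i 1 + c • s with hy
  have hyk : y ∈ coordSub F n k := add_mem (single_mem_coordSub hik 1) (Submodule.smul_mem _ _ hs)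
  have hys : hermForm n F q y s ≠ 0 := by
    rw [hy, herm_add_left, herm_smul_left, hss, mul_zero, add_zero]
    intro h2
    exact h1 (herm_eq_zero_swap hF h2)
  refine ⟨(hermForm n F q y s)⁻¹ • y, Submodule.smul_mem _ _ hyk, ?_, ?_⟩
  · rw [herm_smul_left, herm_smul_right, hc]; ring
  · rw [herm_smul_left, inv_mul_cancel₀ hys]

omit [Fintype F] in
/-- Two isotropic vectors of the coordinate subspace, orthogonal to `s`, forming a hyperbolic pair: the first is
independent of `s`. -/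
theorem indep_of_pair {s x y : Fin n → F} (hs0 : s ≠ 0) (hxy : hermForm n F q x y = 1) (hys : hermForm n F q s y = 0)
    {a b : F} (h : a • s + b • x = 0) : a = 0 ∧ b = 0 := by
  have h1 := congrArg (fun v => hermForm n F q v y) h
  simp only [herm_add_left, herm_smul_left, herm_zero_left, hys, hxy, mul_zero, zero_add, mul_one] at h1
  subst h1
  rw [zero_smul, add_zero] at h
  exact ⟨(smul_eq_zero.1 h).resolve_right hs0, rfl⟩

theorem schur_coord (hF : Fintype.card F = q ^ 2) (hk : 4 ≤ k) (hkn : k ≤ n)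
    (T : coordSub F n k →+ coordSub F n k)
    (hT : ∀ s : coordSub F n k, hermForm n F q (s : Fin n → F) s = 0 → ∀ w : coordSub F n k,
      T (hermForm n F q (w : Fin n → F) s • s) = hermForm n F q (T w : Fin n → F) s • s) :
    ∃ c : F, ∀ w, T w = c • w := by
  -- eigenvalues
  have h1 : ∀ s : coordSub F n k, s ≠ 0 → hermForm n F q (s : Fin n → F) s = 0 → ∃ c : F, T s = c • s := by
    intro s hs0 hss
    obtain ⟨t, ht, -, hts⟩ := exists_partner_coord (q := q) hF s.2 (fun h => hs0 (Subtype.ext h)) hss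
    have h2 := hT s hss ⟨t, ht⟩
    rw [hts, one_smul] at h2
    exact ⟨_, h2⟩
  -- orthogonal independent vectors
  have h3 : ∀ s x : coordSub F n k, hermForm n F q (s : Fin n → F) s = 0 → hermForm n F q (x : Fin n → F) x = 0 →
      hermForm n F q (s : Fin n → F) x = 0 → (∀ a b : F, a • s + b • x = 0 → a = 0 ∧ b = 0) →
      ∀ c : F, T s = c • s → T x = c • x := by
    intro s x hss hxx hsx hind c hc
    have hx0 : x ≠ 0 := by
      rintro rfl
      exact one_ne_zero (hind 0 1 (by simp)).2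
    have hsx0 : s + x ≠ 0 := by
      intro h
      exact one_ne_zero (hind 1 1 (by simpa using h)).1
    have hiso : hermForm n F q ((s + x : coordSub F n k) : Fin n → F) ((s + x : coordSub F n k) : Fin n → F) = 0 := by
      rw [Submodule.coe_add, herm_add_left, herm_add_right hF, herm_add_right hF, hss, hxx, hsx,
        herm_eq_zero_swap hF hsx]
      ring
    obtain ⟨d, hd⟩ := h1 x hx0 hxx
    obtain ⟨e, he⟩ := h1 (s + x) hsx0 hiso
    rw [map_add, hc, hd, smul_add] at he
    have h4 := hind (c - e) (d - e) (by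
      rw [← sub_eq_zero.2 he]
      module)
    rw [hd, sub_eq_zero.1 h4.2, ← sub_eq_zero.1 h4.1]
  -- a reference vector
  have h5 : ∀ s : coordSub F n k, s ≠ 0 → hermForm n F q (s : Fin n → F) s = 0 → ∀ c : F, T s = c • s →
      ∀ l : F, T (l • s) = c • l • s := by
    intro s hs0 hss c hc l
    by_cases hl : l = 0
    · rw [hl, zero_smul, smul_zero, map_zero]
    obtain ⟨x, hx, y, hy, hxx, hyy, hxy, hxs, hys⟩ := exists_pair_coord hF hk hkn s.2 hss
    have hs0' : (s : Fin n → F) ≠ 0 := fun h => hs0 (Subtype.ext h)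
    have hsy : hermForm n F q (s : Fin n → F) y = 0 := herm_eq_zero_swap hF hys
    have hsx : hermForm n F q (s : Fin n → F) x = 0 := herm_eq_zero_swap hF hxs
    have h6 := h3 s ⟨x, hx⟩ hss hxx hsx (fun a b hab => indep_of_pair (q := q) hs0' hxy hsy (by
      have := congrArg (fun v : coordSub F n k => (v : Fin n → F)) hab
      simpa using this)) c hc
    refine h3 ⟨x, hx⟩ (l • s) hxx ?_ ?_ ?_ c h6
    · rw [Submodule.coe_smul, herm_smul_left, herm_smul_right, hss]; ring
    · rw [Submodule.coe_smul, herm_smul_right]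
      change l ^ q * hermForm n F q x s = 0
      rw [hxs, mul_zero]
    · intro a b hab
      have h7 := indep_of_pair (q := q) (a := b * l) (b := a) hs0' hxy hsy (by
        have := congrArg (fun v : coordSub F n k => (v : Fin n → F)) hab
        simp only [Submodule.coe_add, Submodule.coe_smul, Submodule.coe_zero] at this
        rw [← this, smul_smul, add_comm])
      exact ⟨h7.2, (mul_eq_zero.1 h7.1).resolve_right hl⟩
  -- all eigenvalues agree
  have h6 : ∀ s x : coordSub F n k, s ≠ 0 → x ≠ 0 → hermForm n F q (s : Fin n → F) s = 0 →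
      hermForm n F q (x : Fin n → F) x = 0 → ∀ c : F, T s = c • s → T x = c • x := by
    intro s x hs0 hx0 hss hxx c hc
    by_cases hsx : hermForm n F q (s : Fin n → F) x = 0
    · by_cases hind : ∀ a b : F, a • s + b • x = 0 → a = 0 ∧ b = 0
      · exact h3 s x hss hxx hsx hind c hc
      · push Not at hind
        obtain ⟨a, b, hab, hne⟩ := hind
        have hb : b ≠ 0 := by
          rintro rfl
          rw [zero_smul, add_zero] at hab
          exact hne ((smul_eq_zero.1 hab).resolve_right hs0) rfl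
        have e1 : x = (-(b⁻¹ * a)) • s := by
          have h7 : b • x = -(a • s) := by rw [← sub_eq_zero, sub_neg_eq_add, add_comm]; exact hab
          calc x = b⁻¹ • b • x := by rw [smul_smul, inv_mul_cancel₀ hb, one_smul]
            _ = _ := by rw [h7]; module
        rw [e1]
        exact h5 s hs0 hss c hc _
    · -- rescale
      set a := hermForm n F q (s : Fin n → F) x with ha
      have h7 := hT x hxx s
      rw [← ha, hc] at h7
      have h8 : T (a • x) = c • a • x := by
        rw [h7, Submodule.coe_smul, herm_smul_left, ← ha, smul_smul]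
      have h9 := h5 (a • x) (smul_ne_zero hsx hx0)
        (by rw [Submodule.coe_smul, herm_smul_left, herm_smul_right, hxx]; ring) c h8 a⁻¹
      rwa [smul_smul, inv_mul_cancel₀ hsx, one_smul] at h9
  -- a first isotropic vector
  let i0 : Fin n := ⟨0, by omega⟩
  obtain ⟨x, hx, y, hy, hxx, hyy, hxy, -, -⟩ := exists_pair_coord hF hk hkn
    (Submodule.zero_mem (coordSub F n k)) (herm_zero_left (0 : Fin n → F))
  have hx0 : (⟨x, hx⟩ : coordSub F n k) ≠ 0 := by
    intro h
    have h7 := congrArg (fun v : coordSub F n k => (v : Fin n → F)) h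
    simp only [Submodule.coe_zero] at h7
    rw [h7, herm_zero_left] at hxy
    exact zero_ne_one hxy
  obtain ⟨c, hc⟩ := h1 ⟨x, hx⟩ hx0 hxx
  have h10 : ∀ s : coordSub F n k, hermForm n F q (s : Fin n → F) s = 0 → T s = c • s := by
    intro s hss
    by_cases hs0 : s = 0
    · rw [hs0, map_zero, smul_zero]
    · exact h6 ⟨x, hx⟩ s hx0 hs0 hxx hss c hc
  refine ⟨c, fun w => ?_⟩
  -- the additive subgroup of good vectors
  have h11 : ∀ i : Fin n, ∀ hi : i.val < k, ∀ l : F, T (l • ⟨Pi.single i 1, single_mem_coordSub hi 1⟩) =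
      c • l • ⟨Pi.single i 1, single_mem_coordSub hi 1⟩ := by
    intro i hi l
    obtain ⟨j, hij, hj⟩ : ∃ j : Fin n, i ≠ j ∧ j.val < k := by
      by_cases h0 : i = i0
      · exact ⟨⟨1, by omega⟩, by rw [h0]; simp [i0], by simp; omega⟩
      · exact ⟨i0, h0, by simp [i0]; omega⟩
    obtain ⟨p, p', a, b, ha, hp, hp', hpp, hp'p', hpp'⟩ := exists_hyp_pair (q := q) hF hij
    have hpk : p ∈ coordSub F n k := by
      rw [hp]; exact add_mem (single_mem_coordSub hi 1) (Submodule.smul_mem _ _ (single_mem_coordSub hj 1))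
    have hp'k : p' ∈ coordSub F n k := by
      rw [hp']; exact add_mem (single_mem_coordSub hi 1) (Submodule.smul_mem _ _ hpk)
    have e1 : (⟨Pi.single i 1, single_mem_coordSub hi 1⟩ : coordSub F n k) = ⟨p', hp'k⟩ + (-b) • ⟨p, hpk⟩ := by
      apply Subtype.ext
      change (Pi.single i 1 : Fin n → F) = p' + (-b) • p
      rw [hp']; module
    have e2 : l • (⟨Pi.single i 1, single_mem_coordSub hi 1⟩ : coordSub F n k) =
        l • ⟨p', hp'k⟩ + (l * (-b)) • ⟨p, hpk⟩ := by
      rw [e1]; module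
    rw [e2, map_add, h10 (l • ⟨p', hp'k⟩) (by
        rw [Submodule.coe_smul, herm_smul_left, herm_smul_right]; change l * (l ^ q * hermForm n F q p' p') = 0
        rw [hp'p']; ring),
      h10 ((l * (-b)) • ⟨p, hpk⟩) (by
        rw [Submodule.coe_smul, herm_smul_left, herm_smul_right]
        change (l * (-b)) * ((l * (-b)) ^ q * hermForm n F q p p) = 0
        rw [hpp]; ring), smul_add]
  have e3 : w = ∑ i : Fin n, if h : i.val < k then (w : Fin n → F) i • (⟨Pi.single i 1, single_mem_coordSub h 1⟩ :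
      coordSub F n k) else 0 := by
    apply Subtype.ext
    rw [Submodule.coe_sum]
    funext j
    rw [Finset.sum_apply, Finset.sum_eq_single j]
    · by_cases h : j.val < k
      · rw [dif_pos h, Submodule.coe_smul, Pi.smul_apply]
        change (w : Fin n → F) j = (w : Fin n → F) j * (Pi.single j 1 : Fin n → F) j
        rw [Pi.single_eq_same, mul_one]
      · rw [dif_neg h, w.2 j (by omega)]; rfl
    · intro i _ hij
      by_cases h : i.val < k
      · rw [dif_pos h, Submodule.coe_smul, Pi.smul_apply]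
        change (w : Fin n → F) i * (Pi.single i 1 : Fin n → F) j = 0
        rw [Pi.single_eq_of_ne (Ne.symm hij), mul_zero]
      · rw [dif_neg h]; rfl
    · intro h; exact absurd (Finset.mem_univ j) h
  conv_lhs => rw [e3]
  conv_rhs => rw [e3]
  rw [map_sum, Finset.smul_sum]
  refine Finset.sum_congr rfl fun i _ => ?_
  by_cases h : i.val < k
  · rw [dif_pos h, h11 i h]
  · rw [dif_neg h, map_zero, smul_zero]

end Cfsg.Agent.KFacts.Unit

end

-- merged: Cfsg.Agent.KFacts.Unit.PentExt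
section

/-!
# Automorphisms of the stabiliser of an isotropic vector, `q = 2`

`PP q e` = the image in `PSU n F q` of the stabiliser of the isotropic vector `e`, `QQ` the image of the Siegel group.
An automorphism of `PP 2 e` preserving `QQ` is the restriction of an automorphism of `PSU n F 2` (`n ≥ 6`).
-/

set_option autoImplicit false

namespace Cfsg.Agent.KFacts.Unit

open Cfsg Matrix Cfsg.Agent.LieClassical.HermBasic Cfsg.Agent.LieClassical.HermSiegel
  Cfsg.Agent.LieClassical.HermGen Cfsg.Agent.LieClassical.SUBasic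
  Cfsg.Agent.ClassicalGeometry.PSUAutBasic Cfsg.Agent.ClassicalGeometry.PSUAutSylow
  Cfsg.Agent.ClassicalGeometry.PSUAutUnip Cfsg.Agent.ClassicalGeometry.PSUAutPhi
  Cfsg.Agent.ClassicalGeometry.PSUAutExt Cfsg.Agent.ClassicalGeometry.PSUAutSemi

open Cfsg.Agent.ClassicalGeometry.PSUAutCount (gm semiConj toAut herm_gm act_semiConj herm_semi
  gm_inv_mulVec gm_mulVec_inv)

variable {F : Type*} [Field F] [Fintype F] {q n : ℕ}

theorem siegel_mem_PP (hF : Fintype.card F = q ^ 2) {e w : Fin n → F} {μ : F} (h : IsSiegel q e w μ) :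
    pr n F q (siegel hF e w μ h) ∈ PP q e := mem_PP.2 ⟨_, act_siegel_self hF h, rfl⟩

/-- An element of `PP` centralising `QQ` lies in `RR`. -/
theorem mem_RR_of_comm (hF : Fintype.card F = q ^ 2) (hn : 3 ≤ n) {u : Fin n → F} (hu0 : u ≠ 0)
    (hu : hermForm n F q u u = 0) {x : PSU n F q} (hx : x ∈ PP q u) (h : ∀ s ∈ QQ hF u hu, x * s = s * x) :
    x ∈ RR hF u hu := by
  obtain ⟨g, hg, rfl⟩ := mem_PP.1 hx
  refine ⟨g, mem_transvG_of_commute hF hu0 hu hg ?_, rfl⟩
  rintro _ ⟨w, μ, hs, rfl⟩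
  have h1 := h _ (mem_QQ.2 ⟨w, μ, hs, rfl⟩)
  have h2 : pr n F q (g * siegel hF u w μ hs * g⁻¹) = pr n F q (siegel hF u w μ hs) := by
    rw [map_mul, map_mul, map_inv, h1, mul_inv_cancel_right]
  rw [conj_siegel] at h2 ⊢
  exact siegel_pr_inj hF hn _ _ h2

variable {e f : Fin n → F}

/-- `β` preserves `QQ`. -/
def PresQ (hF : Fintype.card F = q ^ 2) (he : hermForm n F q e e = 0) (β : MulAut ↥(PP q e : Subgroup (PSU n F q))) :
    Prop := ∀ x : ↥(PP q e : Subgroup (PSU n F q)), (x : PSU n F q) ∈ QQ hF e he ↔ (β x : PSU n F q) ∈ QQ hF e he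

theorem PresQ.inv {hF : Fintype.card F = q ^ 2} {he : hermForm n F q e e = 0}
    {β : MulAut ↥(PP q e : Subgroup (PSU n F q))} (hβ : PresQ hF he β) : PresQ hF he β⁻¹ := fun x => by
  rw [hβ (β⁻¹ x), MulAut.apply_inv_self]

theorem PresQ.map_RR {hF : Fintype.card F = q ^ 2} [CharP F 2] (hn : 3 ≤ n) (he0 : e ≠ 0) {he : hermForm n F q e e = 0}
    {β : MulAut ↥(PP q e : Subgroup (PSU n F q))} (hβ : PresQ hF he β) {x : ↥(PP q e : Subgroup (PSU n F q))}
    (hx : (x : PSU n F q) ∈ RR hF e he) : (β x : PSU n F q) ∈ RR hF e he := by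
  refine mem_RR_of_comm hF hn he0 he (β x).2 fun s hs => ?_
  have h1 : s ∈ PP q e := QQ_le_PP hF he hs
  set s' := β⁻¹ ⟨s, h1⟩ with hs'
  have h2 : β s' = ⟨s, h1⟩ := MulAut.apply_inv_self _ β _
  have h3 : s' * x = x * s' := Subtype.ext (PP_comm_RR hF he s'.2 hx)
  have h4 := congrArg (fun y => ((β y : ↥(PP q e : Subgroup (PSU n F q))) : PSU n F q)) h3
  simp only [map_mul, Subgroup.coe_mul, h2] at h4
  exact h4.symm

/-- `β` induces `φ` on `V₁`. -/
def IndP (hF : Fintype.card F = q ^ 2) (β : MulAut ↥(PP q e : Subgroup (PSU n F q)))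
    (φ : coordSub F n (n - 2) → coordSub F n (n - 2)) : Prop :=
  ∀ (w : coordSub F n (n - 2)) (μ : F) (h : IsSiegel q e (w : Fin n → F) μ),
    ∃ (μ' : F) (h' : IsSiegel q e (φ w : Fin n → F) μ'),
      (β ⟨_, siegel_mem_PP hF h⟩ : PSU n F q) = pr n F q (siegel hF e (φ w) μ' h')

theorem exists_indP [CharP F 2] (hF : Fintype.card F = q ^ 2) (hn : 3 ≤ n) (H : IsFrame q e f)
    {β : MulAut ↥(PP q e : Subgroup (PSU n F q))} (hβ : PresQ hF H.ee β) :
    ∃ φ : coordSub F n (n - 2) → coordSub F n (n - 2), IndP hF β φ := by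
  have he0 := frame_ne_zero H
  have key : ∀ w : coordSub F n (n - 2), ∃ w' : coordSub F n (n - 2), ∀ (μ : F) (h : IsSiegel q e (w : Fin n → F) μ),
      ∃ (μ' : F) (h' : IsSiegel q e (w' : Fin n → F) μ'),
        (β ⟨_, siegel_mem_PP hF h⟩ : PSU n F q) = pr n F q (siegel hF e w' μ' h') := by
    intro w
    obtain ⟨μ0, h0⟩ := exists_isSiegel hF H w.2
    obtain ⟨w1, μ1, h1, e1⟩ := mem_QQ.1 ((hβ ⟨_, siegel_mem_PP hF h0⟩).1 (mem_QQ.2 ⟨_, _, h0, rfl⟩))
    obtain ⟨w', hw', μ', h', e2⟩ := exists_normal hF H h1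
    refine ⟨⟨w', hw'⟩, fun μ h => ?_⟩
    -- the quotient is a transvection
    have hν : (μ - μ0) + (μ - μ0) ^ q = 0 := by
      have t1 := h.tr
      have t2 := h0.tr
      rw [sub_pow_q hF]
      linear_combination t1 - t2
    have e3 : siegel hF e w μ h = siegel hF e w μ0 h0 * transv hF e H.ee (μ - μ0) hν := by
      rw [transv, siegel_mul]
      exact siegel_congr hF _ _ rfl (add_zero _).symm (by rw [herm_zero_left]; ring)
    have hm : pr n F q (transv hF e H.ee (μ - μ0) hν) ∈ RR hF e H.ee := mem_RR.2 ⟨_, _, rfl⟩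
    have e4 : (⟨_, siegel_mem_PP hF h⟩ : ↥(PP q e : Subgroup (PSU n F q))) =
        ⟨_, siegel_mem_PP hF h0⟩ * ⟨_, QQ_le_PP hF H.ee (RR_le_QQ hF H.ee hm)⟩ := by
      apply Subtype.ext
      rw [Subgroup.coe_mul]
      change pr n F q _ = pr n F q _ * pr n F q _
      rw [e3, map_mul]
    obtain ⟨κ, hκ, e5⟩ := mem_RR.1 (hβ.map_RR hn he0
      (x := ⟨_, QQ_le_PP hF H.ee (RR_le_QQ hF H.ee hm)⟩) hm)
    have h6 : IsSiegel q e (w' + 0) (μ' + κ - hermForm n F q 0 w') := h'.mul hF (isSiegel_zero H.ee hκ)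
    have h7 : IsSiegel q e w' (μ' + κ) := by
      rw [add_zero, herm_zero_left, sub_zero] at h6
      exact h6
    refine ⟨μ' + κ, h7, ?_⟩
    rw [e4, map_mul, Subgroup.coe_mul, e1, e2, e5, ← map_mul, transv, siegel_mul]
    congr 1
    exact siegel_congr hF _ _ rfl (add_zero _) (by rw [herm_zero_left]; ring)
  choose φ hφ using key
  exact ⟨φ, hφ⟩

theorem IndP.unique {hF : Fintype.card F = q ^ 2} (hn : 3 ≤ n) (H : IsFrame q e f)
    {β : MulAut ↥(PP q e : Subgroup (PSU n F q))} {φ ψ : coordSub F n (n - 2) → coordSub F n (n - 2)}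
    (hφ : IndP hF β φ) (hψ : IndP hF β ψ) : φ = ψ := by
  funext w
  obtain ⟨μ, h⟩ := exists_isSiegel hF H w.2
  obtain ⟨μ1, h1, e1⟩ := hφ w μ h
  obtain ⟨μ2, h2, e2⟩ := hψ w μ h
  rw [e1] at e2
  exact Subtype.ext (pr_siegel_inj hF hn H (φ w).2 (ψ w).2 h1 h2 e2).1

theorem IndP.one (hF : Fintype.card F = q ^ 2) : IndP hF (1 : MulAut ↥(PP q e : Subgroup (PSU n F q))) id :=
  fun _ μ h => ⟨μ, h, rfl⟩

theorem IndP.mul {hF : Fintype.card F = q ^ 2} {α β : MulAut ↥(PP q e : Subgroup (PSU n F q))}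
    {φ ψ : coordSub F n (n - 2) → coordSub F n (n - 2)} (hα : IndP hF α φ) (hβ : IndP hF β ψ) :
    IndP hF (α * β) (φ ∘ ψ) := by
  intro w μ h
  obtain ⟨μ1, h1, e1⟩ := hβ w μ h
  obtain ⟨μ2, h2, e2⟩ := hα (ψ w) μ1 h1
  refine ⟨μ2, h2, ?_⟩
  have e3 : β ⟨_, siegel_mem_PP hF h⟩ = ⟨_, siegel_mem_PP hF h1⟩ := Subtype.ext e1
  rw [MulAut.mul_apply, e3, e2]
  rfl

theorem IndP.add {hF : Fintype.card F = q ^ 2} (hn : 3 ≤ n) (H : IsFrame q e f)
    {β : MulAut ↥(PP q e : Subgroup (PSU n F q))} {φ : coordSub F n (n - 2) → coordSub F n (n - 2)}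
    (hφ : IndP hF β φ) (w w' : coordSub F n (n - 2)) : φ (w + w') = φ w + φ w' := by
  obtain ⟨μ, h⟩ := exists_isSiegel hF H w.2
  obtain ⟨μ', h'⟩ := exists_isSiegel hF H w'.2
  obtain ⟨μ1, h1, e1⟩ := hφ w μ h
  obtain ⟨μ2, h2, e2⟩ := hφ w' μ' h'
  have h3 := h.mul hF h'
  obtain ⟨μ3, h4, e3⟩ := hφ (w + w') _ h3
  have e4 : (⟨_, siegel_mem_PP hF h3⟩ : ↥(PP q e : Subgroup (PSU n F q))) =
      ⟨_, siegel_mem_PP hF h⟩ * ⟨_, siegel_mem_PP hF h'⟩ := by
    apply Subtype.ext
    rw [Subgroup.coe_mul]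
    change pr n F q _ = pr n F q _ * pr n F q _
    rw [← map_mul, siegel_mul]
  have e5 : pr n F q (siegel hF e _ _ h4) = pr n F q (siegel hF e _ _ (h1.mul hF h2)) := by
    rw [← e3, ← siegel_mul hF h1 h2, map_mul, ← e1, ← e2, ← Subgroup.coe_mul, ← map_mul, ← e4]
    rfl
  exact Subtype.ext (pr_siegel_inj hF hn H (φ (w + w')).2 (φ w + φ w').2 h4 (h1.mul hF h2) e5).1

theorem exists_indP_equiv [CharP F 2] (hF : Fintype.card F = q ^ 2) (hn : 3 ≤ n) (H : IsFrame q e f)
    {β : MulAut ↥(PP q e : Subgroup (PSU n F q))} (hβ : PresQ hF H.ee β) :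
    ∃ φ : coordSub F n (n - 2) ≃+ coordSub F n (n - 2), IndP hF β φ ∧ IndP hF β⁻¹ φ.symm := by
  obtain ⟨φ, hφ⟩ := exists_indP hF hn H hβ
  obtain ⟨ψ, hψ⟩ := exists_indP hF hn H hβ.inv
  have h1 : φ ∘ ψ = id := by
    have := IndP.mul hφ hψ
    rw [mul_inv_cancel] at this
    exact IndP.unique hn H this (IndP.one hF)
  have h2 : ψ ∘ φ = id := by
    have := IndP.mul hψ hφ
    rw [inv_mul_cancel] at this
    exact IndP.unique hn H this (IndP.one hF)
  let Φ : coordSub F n (n - 2) ≃+ coordSub F n (n - 2) :=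
    { toFun := φ
      invFun := ψ
      left_inv := fun w => congrFun h2 w
      right_inv := fun w => congrFun h1 w
      map_add' := IndP.add hn H hφ }
  exact ⟨Φ, hφ, hψ⟩

/-- Equivariance. -/
theorem IndP.equivariant {hF : Fintype.card F = q ^ 2} (hn : 3 ≤ n) (H : IsFrame q e f)
    {β : MulAut ↥(PP q e : Subgroup (PSU n F q))} {φ : coordSub F n (n - 2) → coordSub F n (n - 2)}
    (hφ : IndP hF β φ) {l0 l : SU n F q} (hl0 : act l0 e = e) (hl : act l e = e)
    (hll : (β ⟨pr n F q l0, mem_PP.2 ⟨l0, hl0, rfl⟩⟩ : PSU n F q) = pr n F q l) (w : coordSub F n (n - 2)) :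
    φ (prV hF H (act l0 w)) = prV hF H (act l (φ w)) := by
  have key : ∀ (l : SU n F q), act l e = e → ∀ (w : coordSub F n (n - 2)) (μ : F)
      (h : IsSiegel q e (w : Fin n → F) μ), ∃ (μ' : F) (h' : IsSiegel q e (prV hF H (act l w) : Fin n → F) μ'),
        l * siegel hF e w μ h * l⁻¹ = siegel hF e (prV hF H (act l w)) μ' h' := by
    intro l hl w μ h
    have h1 : IsSiegel q e (act l w) μ := by have := h.map l; rwa [hl] at this
    obtain ⟨w', hw', μ', h', e2⟩ := exists_normal hF H h1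
    have e3 : prV hF H (act l w) = ⟨w', hw'⟩ := by
      -- compare the action on `f`
      have h2 := congrArg (fun g => act g f) e2
      simp only [act_siegel, frame_fe hF H, one_smul, mul_one] at h2
      have h3 : act l (w : Fin n → F) = w' + (hermForm n F q f (act l w) - μ - hermForm n F q f w' + μ') • e := by
        have h4 : (act l (w : Fin n → F)) + (μ - hermForm n F q f (act l w)) • e =
            w' + (μ' - hermForm n F q f w') • e := by
          rw [add_assoc, add_assoc] at h2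
          exact add_left_cancel h2
        calc act l (w : Fin n → F) = w' + (μ' - hermForm n F q f w') • e - (μ - hermForm n F q f (act l w)) • e :=
              eq_sub_of_add_eq h4
          _ = _ := by module
      rw [h3, prV_add, prV_smul, prV_of_mem hF H ⟨w', hw'⟩]
      have h5 : prV hF H e = 0 := by
        apply Subtype.ext
        rw [prV_coe, H.ef, H.ee, one_smul, zero_smul, sub_self, sub_zero]
        rfl
      rw [h5, smul_zero, add_zero]
    have h5 : IsSiegel q e (prV hF H (act l w) : Fin n → F) μ' := by rw [e3]; exact h'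
    refine ⟨μ', h5, ?_⟩
    rw [conj_siegel, siegel_congr hF _ h1 hl rfl rfl, e2]
    exact siegel_congr hF _ _ rfl (by rw [e3]) rfl
  obtain ⟨μ, h⟩ := exists_isSiegel hF H w.2
  obtain ⟨μ1, h1, e1⟩ := key l0 hl0 w μ h
  obtain ⟨μ2, h2, e2⟩ := hφ w μ h
  obtain ⟨μ3, h3, e3⟩ := hφ _ μ1 h1
  obtain ⟨μ4, h4, e4⟩ := key l hl (φ w) μ2 h2
  have e5 : (⟨_, siegel_mem_PP hF h1⟩ : ↥(PP q e : Subgroup (PSU n F q))) =
      ⟨pr n F q l0, mem_PP.2 ⟨l0, hl0, rfl⟩⟩ * ⟨_, siegel_mem_PP hF h⟩ *
        (⟨pr n F q l0, mem_PP.2 ⟨l0, hl0, rfl⟩⟩)⁻¹ := by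
    apply Subtype.ext
    rw [Subgroup.coe_mul, Subgroup.coe_mul, Subgroup.coe_inv]
    change pr n F q _ = pr n F q _ * pr n F q _ * (pr n F q _)⁻¹
    rw [← map_mul, ← map_inv, ← map_mul, e1]
  have e6 : pr n F q (siegel hF e _ _ h3) = pr n F q (siegel hF e _ _ h4) := by
    rw [← e3, e5, map_mul, map_mul, map_inv, Subgroup.coe_mul, Subgroup.coe_mul, Subgroup.coe_inv, hll, e2,
      ← map_mul, ← map_inv, ← map_mul, e4]
  exact Subtype.ext (pr_siegel_inj hF hn H (φ _).2 (prV hF H _).2 h3 h4 e6).1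

/-- The induced map is semilinear. -/
theorem IndP.exists_semilinear [CharP F 2] {hF : Fintype.card F = q ^ 2} (hn : 6 ≤ n) (H : IsFrame q e f)
    {β : MulAut ↥(PP q e : Subgroup (PSU n F q))} {φ : coordSub F n (n - 2) ≃+ coordSub F n (n - 2)}
    (hφ : IndP hF β φ) :
    ∃ ρ : F ≃+* F, ∀ (c : F) (w : coordSub F n (n - 2)), φ (c • w) = ρ c • φ w := by
  have h11 : (1 : F) + 1 ^ q = 0 := by rw [one_pow]; exact CharTwo.add_self_eq_zero 1
  have key : ∀ c : F, ∃ c' : F, ∀ w : coordSub F n (n - 2), φ (c • w) = c' • φ w := by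
    intro c
    let T : (coordSub F n (n - 2)) →+ (coordSub F n (n - 2)) :=
      { toFun := fun w => φ (c • φ.symm w)
        map_zero' := by rw [map_zero, smul_zero, map_zero]
        map_add' := fun w w' => by rw [map_add, smul_add, map_add] }
    obtain ⟨c', hc'⟩ := schur_coord hF (by omega) (by omega) T (by
      intro s hss w
      -- the transvection of `s`
      set l := transv hF (s : Fin n → F) hss 1 h11 with hl
      have hse : hermForm n F q (e : Fin n → F) s = 0 := herm_eq_zero_swap hF ((H.mem s).1 s.2).1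
      have hle : act l e = e := by rw [hl, act_transv, hse, mul_zero, zero_smul, add_zero]
      have hlv : ∀ v : coordSub F n (n - 2), prV hF H (act l v) = v + hermForm n F q (v : Fin n → F) s • s := by
        intro v
        rw [hl, act_transv, one_mul, prV_add, prV_smul, prV_of_mem, prV_of_mem]
      obtain ⟨l0, hl0, hll⟩ : ∃ (l0 : SU n F q) (hl0 : act l0 e = e),
          (β ⟨pr n F q l0, mem_PP.2 ⟨l0, hl0, rfl⟩⟩ : PSU n F q) = pr n F q l := by
        obtain ⟨l0, hl0, h0⟩ := mem_PP.1 (β⁻¹ ⟨pr n F q l, mem_PP.2 ⟨l, hle, rfl⟩⟩).2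
        refine ⟨l0, hl0, ?_⟩
        have h1 : (⟨pr n F q l0, mem_PP.2 ⟨l0, hl0, rfl⟩⟩ : ↥(PP q e : Subgroup (PSU n F q))) =
            β⁻¹ ⟨pr n F q l, mem_PP.2 ⟨l, hle, rfl⟩⟩ := Subtype.ext h0
        rw [h1, MulAut.apply_inv_self]
      have E := fun v => IndP.equivariant (by omega) H hφ hl0 hle hll v
      have h2 : φ.symm (prV hF H (act l w)) = prV hF H (act l0 (φ.symm w)) := by
        rw [AddEquiv.symm_apply_eq, E, AddEquiv.apply_symm_apply]
      have h3 : T (prV hF H (act l w)) = prV hF H (act l (T w)) := by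
        change φ (c • φ.symm _) = prV hF H (act l (φ (c • φ.symm w) : coordSub F n (n - 2)))
        rw [h2, ← E, Submodule.coe_smul, act_smul, prV_smul]
      rw [hlv, hlv, map_add] at h3
      exact add_left_cancel h3)
    refine ⟨c', fun w => ?_⟩
    have h3 := hc' (φ w)
    change φ (c • φ.symm (φ w)) = c' • φ w at h3
    rwa [AddEquiv.symm_apply_apply] at h3
  choose ρ hρ using key
  let i0 : Fin n := ⟨0, by omega⟩
  have hi0 : i0.val < n - 2 := by simp [i0]; omega
  have hw0 : φ (bas F n i0) ≠ 0 := by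
    intro h
    exact bas_ne_zero (F := F) hi0 ((map_eq_zero_iff φ φ.injective).1 h)
  have hinj : ∀ c d : F, c • φ (bas F n i0) = d • φ (bas F n i0) → c = d := by
    intro c d h
    exact smul_left_injective F hw0 h
  let R : F →+* F :=
    { toFun := ρ
      map_one' := hinj _ _ (by rw [← hρ, one_smul, one_smul])
      map_mul' := fun c d => hinj _ _ (by rw [← hρ, mul_smul, hρ, hρ, mul_smul])
      map_zero' := hinj _ _ (by rw [← hρ, zero_smul, zero_smul, map_zero])
      map_add' := fun c d => hinj _ _ (by rw [← hρ, add_smul, add_smul, map_add, hρ, hρ]) }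
  exact ⟨RingEquiv.ofBijective R ⟨R.injective, Finite.surjective_of_injective R.injective⟩,
    fun c w => hρ c w⟩

/-- Commuting Siegel elements. -/
theorem IndP.herm_symm {hF : Fintype.card F = q ^ 2} (hn : 3 ≤ n)
    (H : IsFrame q e f) {β : MulAut ↥(PP q e : Subgroup (PSU n F q))}
    {φ : coordSub F n (n - 2) → coordSub F n (n - 2)} (hφ : IndP hF β φ)
    {w w' : coordSub F n (n - 2)}
    (hw : hermForm n F q (w : Fin n → F) w' = hermForm n F q (w' : Fin n → F) w) :
    hermForm n F q (φ w : Fin n → F) (φ w') = hermForm n F q (φ w' : Fin n → F) (φ w) := by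
  obtain ⟨μ, h⟩ := exists_isSiegel hF H w.2
  obtain ⟨μ', h'⟩ := exists_isSiegel hF H w'.2
  obtain ⟨μ1, h1, e1⟩ := hφ w μ h
  obtain ⟨μ2, h2, e2⟩ := hφ w' μ' h'
  have e3 : siegel hF e w μ h * siegel hF e w' μ' h' =
      siegel hF e w' μ' h' * siegel hF e w μ h := by
    rw [siegel_mul, siegel_mul]
    apply siegel_congr hF _ _ rfl (add_comm _ _)
    rw [hw]; ring
  have e0 : (⟨_, siegel_mem_PP hF h⟩ * ⟨_, siegel_mem_PP hF h'⟩ : ↥(PP q e : Subgroup (PSU n F q))) =
      ⟨_, siegel_mem_PP hF h'⟩ * ⟨_, siegel_mem_PP hF h⟩ := by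
    apply Subtype.ext
    rw [Subgroup.coe_mul, Subgroup.coe_mul]
    change pr n F q _ * pr n F q _ = pr n F q _ * pr n F q _
    rw [← map_mul, ← map_mul, e3]
  have e4 : pr n F q (siegel hF e _ _ (h1.mul hF h2)) =
      pr n F q (siegel hF e _ _ (h2.mul hF h1)) := by
    rw [← siegel_mul hF h1 h2, ← siegel_mul hF h2 h1, map_mul, map_mul, ← e1, ← e2, ← Subgroup.coe_mul,
      ← Subgroup.coe_mul, ← map_mul, ← map_mul, e0]
  have e5 := (pr_siegel_inj hF hn H (φ w + φ w').2 (φ w' + φ w).2 _ _ e4).2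
  linear_combination e5

end Cfsg.Agent.KFacts.Unit

end
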